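/-
The wreath product of the dihedral group of order eight by a group of order two inside a `2`-group of sectional rank four.
-/
import Cfsg.Agent.Lib.Comp.Dw.Base
import Cfsg.Agent.Lib.SRank.Basic

set_option autoImplicit false
set_option maxRecDepth 100000
set_option maxHeartbeats 400000

namespace Cfsg.Lib.Comp.Dw

open Subgroup Cfsg.Lib.SRank

theorem sr_of {G : Type*} [Group G] [Finite G] {k : ℕ} (h : SectionalPRankLE 2 k G) : SR (2 ^ k) (⊤ : Subgroup G) := by
  intro H _ K hK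
  have : (K.subgroupOf H).Normal := ⟨fun n hn g => by
    have := mul_mem (comm_mem hK g.2 n.2) (show (n : G) ∈ K from hn)
    rwa [inv_mul_cancel_right] at this⟩
  have := h H (K.subgroupOf H) ⊤ ⟨⟨fun a b => Subtype.ext (by
    obtain ⟨a, ha⟩ := QuotientGroup.mk_surjective a.1
    obtain ⟨b, hb⟩ := QuotientGroup.mk_surjective b.1
    rw [coe_mul, coe_mul, ← ha, ← hb, ← QuotientGroup.mk_mul, ← QuotientGroup.mk_mul, QuotientGroup.eq]
    have := comm_mem hK (inv_mem b.2) (inv_mem a.2)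
    simpa [mem_subgroupOf, mul_assoc] using this)⟩⟩ fun a _ => by
    obtain ⟨a, rfl⟩ := QuotientGroup.mk_surjective a
    rw [← QuotientGroup.mk_pow, QuotientGroup.eq_one_iff, sq]
    exact hK a a.2
  rwa [card_top] at this

theorem syl {H : Subgroup (Equiv.Perm (Fin 8))} (h : Nat.card H = 128) :
    ∃ T : Sylow 2 (Equiv.Perm (Fin 8)), (T : Subgroup (Equiv.Perm (Fin 8))) = H := by
  have := H.card_mul_index
  rw [h, Nat.card_perm, Nat.card_eq_fintype_card, Fintype.card_fin] at this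
  exact ⟨(IsPGroup.of_card (n := 7) h).toSylow (by
    rw [show H.index = 315 by simp only [Nat.factorial] at this; omega]; norm_num), rfl⟩

theorem enum' (τ : MulAut W) : (∀ y, Y y → Y (τ y)) ∧
    (((∀ v ∈ V1, τ v ∈ V2) ∧ (∀ v ∈ V2, τ v ∈ V1) ∧ τ (el 1) ∉ V1 ∧ τ (el 4) ∉ V2) ∨ (∀ v ∈ V1, τ v ∈ V1) ∧
      ∃ p : W, p * τ (el 64) * p⁻¹ = el 64 ∧ (p * τ (el 1) * p⁻¹, p * τ (el 4) * p⁻¹) ∈ reps) := by
  have e : ∀ {a b : W}, a = b → τ a = τ b := fun h => congrArg τ h
  have n : ∀ {a : W}, a ≠ 1 → τ a ≠ 1 := fun h => (map_ne_one_iff τ τ.injective).2 h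
  have := enum (τ (el 1)) (by simpa only [map_mul, map_one] using e (show el 1 * el 1 = 1 by decide +kernel))
    (τ (el 4)) (by simpa only [map_mul, map_one] using e (show el 4 * el 4 = 1 by decide +kernel))
    (by simpa only [map_mul] using n (show el 1 * el 4 * (el 1 * el 4) ≠ 1 by decide +kernel))
    (by simpa only [map_mul, map_one] using e (show el 1 * el 4 * (el 1 * el 4) * (el 1 * el 4 * (el 1 * el 4)) = 1 by
      decide +kernel))
    (τ (el 64)) (by simpa only [map_mul, map_one] using e (show el 64 * el 64 = 1 by decide +kernel))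
    (by simpa only [map_mul] using e (show el 1 * (el 64 * el 1 * el 64) = el 64 * el 1 * el 64 * el 1 by decide +kernel))
    (by simpa only [map_mul] using e (show el 1 * (el 64 * el 4 * el 64) = el 64 * el 4 * el 64 * el 1 by decide +kernel))
    (by simpa only [map_mul] using e (show el 4 * (el 64 * el 4 * el 64) = el 64 * el 4 * el 64 * el 4 by decide +kernel))
    (by simpa only [map_mul] using n (show el 1 * el 4 * (el 1 * el 4) * (el 64 * (el 1 * el 4 * (el 1 * el 4)) * el 64) ≠ 1 by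
      decide +kernel))
  have h : ∀ w, sf (τ (el 1)) (τ (el 4)) (τ (el 64)) w = τ w := fun w => (hom_eq τ.toMonoidHom w).symm
  simpa only [h] using this

variable {S : Type*} [Group S] [Finite S] {κ : W →* S}

/-- An element outside the model acting on it. -/
def Cf (κ : W →* S) (x : S) (τ : W → W) (u : W) : Prop :=
  x ∉ κ.range ∧ (∀ w, κ (τ w) = x * κ w * x⁻¹) ∧ x * x = κ u

omit [Finite S] in
theorem Cf.shift {x : S} {τ : W → W} {u : W} (h : Cf κ x τ u) (p : W) :
    Cf κ (κ p * x) (fun w => p * τ w * p⁻¹) (p * τ p * u) :=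
  ⟨fun c => h.1 ((mul_mem_cancel_left (show κ p ∈ κ.range from ⟨p, rfl⟩)).1 c), fun w => by
    simp only [map_mul, map_inv, h.2.1]; group, by simp only [map_mul, h.2.1, ← h.2.2]; group⟩

theorem sec (hκ : Function.Injective κ) (hS : SR 16 (⊤ : Subgroup S)) {y : S} {τ : W → W} {u : W} (h : Cf κ y τ u)
    {A B : Subgroup W} (hc : Nat.card A = 16 * Nat.card B) (hB : B ≤ A)
    (hg : u ∈ A ∧ ∀ a ∈ A, τ a ∈ A ∧ a * a ∈ B ∧ a * τ a * u ∈ B) : False := by
  have c1 : ∀ g ∈ A.map κ, y * g * y⁻¹ ∈ A.map κ := by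
    rintro _ ⟨a, ha, rfl⟩; exact ⟨τ a, (hg.2 a ha).1, h.2.1 a⟩
  have c2 : y * y ∈ A.map κ := ⟨u, hg.1, h.2.2.symm⟩
  let H : Subgroup S :=
    { carrier := {g | g ∈ A.map κ ∨ g * y⁻¹ ∈ A.map κ}
      one_mem' := .inl (one_mem _)
      inv_mem' := fun {g} hg => hg.imp inv_mem fun c => by
        have := mul_mem (mul_mem (inv_mem c2) (c1 _ (inv_mem c))) (one_mem _)
        convert this using 1; group
      mul_mem' := fun {a b} ha hb => by
        rcases ha with ha | ha <;> rcases hb with hb | hb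
        · exact .inl (mul_mem ha hb)
        · exact .inr (by simpa only [mul_assoc] using mul_mem ha hb)
        · refine .inr ?_
          have := mul_mem ha (c1 _ hb)
          convert this using 1; group
        · refine .inl ?_
          have := mul_mem (mul_mem ha (c1 _ hb)) c2
          convert this using 1; group }
  have h1 := hS H le_top (B.map κ) (by
    rintro g (⟨a, ha, rfl⟩ | ⟨a, ha, e⟩)
    · exact ⟨a * a, (hg.2 a ha).2.1, map_mul _ _ _⟩
    · refine ⟨_, (hg.2 a ha).2.2, ?_⟩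
      rw [map_mul, map_mul, h.2.1, ← h.2.2, e]; group)
  rw [← relIndex_mul_relIndex (B.map κ) (A.map κ) H (map_mono hB) fun g hg => Or.inl hg,
    relIndex_map_map_of_injective _ _ hκ] at h1
  have h2 := (B.subgroupOf A).card_mul_index
  rw [Nat.card_congr (subgroupOfEquivOfLe hB).toEquiv, hc, mul_comm] at h2
  have h3 : B.relIndex A = 16 := Nat.eq_of_mul_eq_mul_right Nat.card_pos h2
  have h4 := rel_ne (A.map κ) H
  have h5 : (A.map κ).relIndex H ≠ 1 := fun e => by
    obtain ⟨a, -, ha⟩ := relIndex_eq_one.1 e (show y ∈ H from Or.inr (by simp))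
    exact h.1 ⟨a, ha⟩
  rw [h3] at h1
  omega

theorem key (hκ : Function.Injective κ) (hS : SR 16 (⊤ : Subgroup S)) {x : S} {τ : MulAut W} {u : W} (h : Cf κ x τ u) :
    τ (el 1) ∉ V1 ∧ τ (el 4) ∉ V2 := by
  rcases (enum' τ).2 with a | ⟨-, p, p1, p2⟩
  · exact a.2.2
  have h1 := h.shift p
  have e : (fun w => p * τ w * p⁻¹) = sf (p * τ (el 1) * p⁻¹) (p * τ (el 4) * p⁻¹) (el 64) := funext fun w => by
    have := hom_eq (τ.trans (MulAut.conj p)).toMonoidHom w
    simpa only [MulEquiv.coe_toMonoidHom, MulEquiv.trans_apply, MulAut.conj_apply, p1] using this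
  have e1 : sf (p * τ (el 1) * p⁻¹) (p * τ (el 4) * p⁻¹) (el 64) (el 1) = p * τ (el 1) * p⁻¹ := (congrFun e _).symm
  have e2 : sf (p * τ (el 1) * p⁻¹) (p * τ (el 4) * p⁻¹) (el 64) (el 4) = p * τ (el 4) * p⁻¹ := (congrFun e _).symm
  have e3 : sf (p * τ (el 1) * p⁻¹) (p * τ (el 4) * p⁻¹) (el 64) (el 64) = el 64 := (congrFun e _).symm.trans p1
  rw [e] at h1
  generalize p * τ (el 1) * p⁻¹ = a, p * τ (el 4) * p⁻¹ = b, κ p * x = y, p * τ p * u = v at *
  have c : ∀ g, v * g * v⁻¹ = sf a b (el 64) (sf a b (el 64) g) := fun g => hκ (by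
    rw [h1.2.1, h1.2.1, map_mul, map_mul, map_inv, ← h1.2.2]; group)
  obtain ⟨q, -, k | k | k⟩ := good _ p2 v (by rw [c, e1]) (by rw [c, e2]) (by rw [c, e3, e3])
  · exact (sec hκ hS (h1.shift q) (by rw [card_V1, card_O]) (fun w => by revert w; decide +kernel) k).elim
  · exact (sec hκ hS (h1.shift q) (by rw [card_V2, card_O]) (fun w => by revert w; decide +kernel) k).elim
  · exact (sec hκ hS (h1.shift q) (by rw [card_Q, card_Z]) (fun w => by revert w; decide +kernel) k).elim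

/-- The action of the normaliser. -/
noncomputable def act (hκ : Function.Injective κ) : normalizer (κ.range : Set S) →* MulAut W :=
  (MulAut.congr (MonoidHom.ofInjective hκ).symm).toMonoidHom.comp κ.range.normalizerMonoidHom

omit [Finite S] in
theorem act_eq (hκ : Function.Injective κ) (x : normalizer (κ.range : Set S)) (w : W) :
    κ (act hκ x w) = x * κ w * (x : S)⁻¹ :=
  MonoidHom.apply_ofInjective_symm hκ _

theorem norm_eq (hκ : Function.Injective κ) (h2 : IsPGroup 2 S) (hS : SR 16 (⊤ : Subgroup S)) {V : Subgroup W}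
    (hV : V = V1 ∨ V = V2) (hn : ∀ g ∈ κ.range, ∀ v ∈ V.map κ, g * v * g⁻¹ ∈ V.map κ) :
    normalizer (V.map κ : Set S) = κ.range := by
  by_contra hne
  obtain ⟨s, s1, s2, s3, u, s4⟩ := exists_norm_sq (h2.to_subgroup _)
    (show κ.range ≤ normalizer (V.map κ : Set S) from fun g hg => mem_normalizer_fintype (hn g hg)) (Ne.symm hne)
  have k := key hκ hS (τ := act hκ ⟨s, s3⟩) ⟨s2, act_eq hκ ⟨s, s3⟩, s4.symm⟩
  have m : ∀ v ∈ V, act hκ ⟨s, s3⟩ v ∈ V := fun v hv => (mem_map_iff_mem hκ).1 (by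
    rw [act_eq]; exact (mem_normalizer_iff.1 s1 _).1 (mem_map_of_mem κ hv))
  rcases hV with rfl | rfl
  exacts [k.1 (m _ (by decide +kernel)), k.2 (m _ (by decide +kernel))]

theorem norm_V1 (hκ : Function.Injective κ) (h2 : IsPGroup 2 S) (hS : SR 16 (⊤ : Subgroup S)) :
    normalizer (V1.map κ : Set S) = κ.range :=
  norm_eq hκ h2 hS (.inl rfl) (by
    rintro _ ⟨g, rfl⟩ _ ⟨v, hv, rfl⟩
    exact ⟨_, nrm1 v hv g, by simp⟩)

theorem mem_of (hκ : Function.Injective κ) (h2 : IsPGroup 2 S) (hS : SR 16 (⊤ : Subgroup S))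
    (x : normalizer (κ.range : Set S)) (h : ∀ v ∈ V1, act hκ x v ∈ V1) : x.1 ∈ κ.range := by
  refine (norm_V1 hκ h2 hS).le (mem_normalizer_fintype ?_)
  rintro _ ⟨v, hv, rfl⟩
  exact ⟨_, h v hv, act_eq hκ x v⟩

theorem swap_of (hκ : Function.Injective κ) (h2 : IsPGroup 2 S) (hS : SR 16 (⊤ : Subgroup S))
    (x : normalizer (κ.range : Set S)) (h : x.1 ∉ κ.range) :
    (∀ v ∈ V1, act hκ x v ∈ V2) ∧ ∀ v ∈ V2, act hκ x v ∈ V1 :=
  ((enum' (act hκ x)).2.resolve_right fun c => h (mem_of hκ h2 hS x c.1)).imp_right And.left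

theorem idx (hκ : Function.Injective κ) (h2 : IsPGroup 2 S) (hS : SR 16 (⊤ : Subgroup S)) (hP : κ.range ≠ ⊤) :
    κ.range.relIndex (normalizer (κ.range : Set S)) = 2 := by
  obtain ⟨s, -, s2, s3, -⟩ := exists_norm_sq (h2.to_subgroup ⊤) le_top hP
  refine relIndex_eq_two_iff.2 ⟨s, s3, fun b hb => ?_⟩
  by_cases h : b ∈ κ.range
  · exact Or.inr ⟨h, fun c => s2 ((mul_mem_cancel_left h).1 c)⟩
  · refine Or.inl ⟨mem_of hκ h2 hS (⟨b, hb⟩ * ⟨s, s3⟩) fun v hv => ?_, h⟩
    rw [map_mul, MulAut.mul_apply]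
    exact (swap_of hκ h2 hS ⟨b, hb⟩ h).2 _ ((swap_of hκ h2 hS ⟨s, s3⟩ s2).1 v hv)

omit [Finite S] in
theorem cen_map (hκ : Function.Injective κ) : (center κ.range).map κ.range.subtype = Z.map κ := by
  ext g
  constructor
  · rintro ⟨⟨_, v, rfl⟩, h, rfl⟩
    exact ⟨v, (mem_Z v).2 fun g => hκ (by
      simpa using congrArg Subtype.val (mem_center_iff.1 h ⟨_, g, rfl⟩)), rfl⟩
  · rintro ⟨v, h, rfl⟩
    refine ⟨⟨_, v, rfl⟩, mem_center_iff.2 ?_, rfl⟩
    rintro ⟨_, g, rfl⟩
    exact Subtype.ext (by simpa using congrArg κ ((mem_Z v).1 h g))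

theorem cen_eq (hκ : Function.Injective κ) (h2 : IsPGroup 2 S) (hS : SR 16 (⊤ : Subgroup S)) : center S = Z.map κ := by
  have h1 : center S ≤ Z.map κ := fun g hg => by
    obtain ⟨v, rfl⟩ := (norm_V1 hκ h2 hS).le (center_le_normalizer _ hg)
    exact ⟨v, (mem_Z v).2 fun g => hκ (by simpa using mem_center_iff.1 hg (κ g)), rfl⟩
  have : Nontrivial S := ⟨κ (el 1), κ 1, hκ.ne (by decide +kernel)⟩
  have := h2.center_nontrivial
  refine eq_of_le_of_card_ge h1 ?_
  rw [card_map_of_injective hκ, card_Z]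
  exact Finite.one_lt_card

/-- The eight involutions. -/
def Ys : SubMulAction (MulAut W) W where
  carrier := {w | Y w}
  smul_mem' := fun τ _ h => (enum' τ).1 _ h

theorem quot (hκ : Function.Injective κ) (h2 : IsPGroup 2 S) (hS : SR 16 (⊤ : Subgroup S)) (hP : κ.range ≠ ⊤) :
    ∃ (_ : ((center S).subgroupOf (normalizer (κ.range : Set S))).Normal) (T : Sylow 2 (Equiv.Perm (Fin 8))),
      Nonempty (↥(normalizer (κ.range : Set S)) ⧸ (center S).subgroupOf (normalizer (κ.range : Set S)) ≃*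
        ↥(T : Subgroup (Equiv.Perm (Fin 8)))) := by
  let e : Ys ≃ Fin 8 := Finite.equivFinOfCardEq card_Y
  let ψ := e.permCongrHom.toMonoidHom.comp ((MulAction.toPermHom (MulAut W) Ys).comp (act hκ))
  have hk : ψ.ker = (center S).subgroupOf _ := by
    ext x
    have a : ψ x = 1 ↔ ∀ y, Y y → act hκ x y = y := by
      refine (map_eq_one_iff _ e.permCongrHom.injective).trans ⟨fun h y hy => ?_, fun h => Equiv.ext fun y => ?_⟩
      · exact congrArg (fun f : Equiv.Perm Ys => (f ⟨y, hy⟩ : W)) h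
      · exact Subtype.ext (h y y.2)
    rw [MonoidHom.mem_ker, a, mem_subgroupOf]
    refine ⟨fun h => ?_, fun h y _ => hκ (by rw [act_eq, ← mem_center_iff.1 h, mul_inv_cancel_right])⟩
    have m : x.1 ∈ κ.range := by_contra fun c => by
      have := (swap_of hκ h2 hS x c).1 (el 64 * el 73) (by decide +kernel)
      rw [map_mul, h _ (by decide +kernel), h _ (by decide +kernel)] at this
      exact absurd this (by decide +kernel)
    obtain ⟨v, hv⟩ := m
    rw [cen_eq hκ h2 hS]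
    exact ⟨v, cen_Y v fun y hy => hκ (by rw [map_mul, map_mul, map_inv, hv, ← act_eq hκ, h y hy]), hv⟩
  have c1 := (κ.range.subgroupOf (normalizer (κ.range : Set S))).card_mul_index
  rw [Nat.card_congr (subgroupOfEquivOfLe le_normalizer).toEquiv, ← Nat.card_congr (MonoidHom.ofInjective hκ).toEquiv,
    card_W, show index _ = 2 from idx hκ h2 hS hP] at c1
  have c2 := ψ.ker.card_mul_index
  rw [index_ker, hk, Nat.card_congr (subgroupOfEquivOfLe (center_le_normalizer _)).toEquiv, cen_eq hκ h2 hS,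
    card_map_of_injective hκ, card_Z, ← c1] at c2
  obtain ⟨T, hT⟩ := syl (H := ψ.range) (by omega)
  exact ⟨inferInstance, T, ⟨(QuotientGroup.quotientMulEquivOfEq hk.symm).trans
    ((QuotientGroup.quotientKerEquivRange ψ).trans (MulEquiv.subgroupCongr hT.symm))⟩⟩

theorem cases16 {U : Subgroup W} (h1 : ∀ g, ∀ v ∈ U, g * v * g⁻¹ ∈ U) (h2 : ∀ v ∈ U, ∀ w ∈ U, v * w = w * v)
    (h3 : ∀ v ∈ U, v * v = 1) (h4 : Nat.card U = 16) : U = V1 ∨ U = V2 := by
  have a : ∀ v ∈ U, v ∈ V1 ∨ v ∈ V2 := fun v hv => cls v (h3 v hv) fun g => h2 v hv _ (h1 g v hv)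
  by_cases c : U ≤ V1
  · exact .inl (eq_of_le_of_card_ge c (card_V1.trans h4.symm).le)
  obtain ⟨w, w1, w2⟩ := SetLike.not_le_iff_exists.1 c
  refine .inr (eq_of_le_of_card_ge (fun v hv => (a v hv).elim (fun k => ?_) id) (card_V2.trans h4.symm).le)
  exact (cls2 v k w ((a w w1).resolve_left w2) (a _ (mul_mem hv w1))).resolve_right w2

omit [Finite S] in
theorem exists_kappa {P : Subgroup S} {T : Sylow 2 (Equiv.Perm (Fin 8))} (e : P ≃* (T : Subgroup (Equiv.Perm (Fin 8)))) :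
    ∃ κ : W →* S, Function.Injective κ ∧ κ.range = P := by
  obtain ⟨T0, h0⟩ := syl (H := (MulAction.toPermHom W (Fin 8)).range)
    ((Nat.card_congr (MonoidHom.ofInjective emb_inj).toEquiv).symm.trans card_W)
  let f : W ≃* P := ((MonoidHom.ofInjective emb_inj).trans (MulEquiv.subgroupCongr h0.symm)).trans
    ((Sylow.equiv T0 T).trans e.symm)
  exact ⟨P.subtype.comp f.toMonoidHom, (subtype_injective _).comp f.injective, by
    rw [MonoidHom.range_comp, MonoidHom.range_eq_top.2 f.surjective, ← MonoidHom.range_eq_map, range_subtype]⟩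

end Cfsg.Lib.Comp.Dw
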